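import Mathlib

/-!
# S4884, classical groups in cross characteristic: the lift lemma (helper747)

`φ : Gh → S` onto with central kernel, `Q₀` a `q`-subgroup of `Gh`, `x ∈ S` commuting with `φ(Q₀)`, `q ∤ o(x)`: every
preimage of `x` commutes with `Q₀` (`u ↦ [y, u]` is a homomorphism of the `q`-group `Q₀` into the centre whose values have
order dividing `o(x)`).
-/

set_option autoImplicit false

namespace Cfsg.Agent.H747.CC

universe u v

variable {Gh : Type u} {S : Type v} [Group Gh] [Group S]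

/-- a central commutator `c = [y, u]`: if `y ^ n` is central and `u ^ m = 1` with `n`, `m` coprime then `c = 1` -/
theorem comm_eq_one {y u : Gh} (hc : y * u * y⁻¹ * u⁻¹ ∈ Subgroup.center Gh) {n m : ℕ}
    (hn : y ^ n ∈ Subgroup.center Gh) (hm : u ^ m = 1) (hnm : Nat.Coprime n m) : y * u = u * y := by
  set c : Gh := y * u * y⁻¹ * u⁻¹ with hcdef
  have hyu : y * u = c * u * y := by rw [hcdef]; group
  have hcc : ∀ g : Gh, c * g = g * c := fun g => ((Subgroup.mem_center_iff.1 hc) g).symm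
  -- `y * u ^ k = c ^ k * u ^ k * y`
  have h1 : ∀ k : ℕ, y * u ^ k = c ^ k * u ^ k * y := by
    intro k
    induction k with
    | zero => simp
    | succ k ih =>
      have hk : u ^ k * c = c * u ^ k := (hcc _).symm
      calc y * u ^ (k + 1) = (y * u ^ k) * u := by rw [pow_succ, mul_assoc]
        _ = c ^ k * u ^ k * (y * u) := by rw [ih, mul_assoc]
        _ = c ^ k * (u ^ k * c) * u * y := by rw [hyu]; group
        _ = c ^ (k + 1) * u ^ (k + 1) * y := by rw [hk, pow_succ, pow_succ]; group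
  have h2 : ∀ k : ℕ, y ^ k * u = c ^ k * u * y ^ k := by
    intro k
    induction k with
    | zero => simp
    | succ k ih =>
      have hck : c ^ k * y = y * c ^ k := by
        have : Commute c y := hcc y
        exact (this.pow_left k)
      have hy : y * c ^ k = c ^ k * y := hck.symm
      calc y ^ (k + 1) * u = y * (y ^ k * u) := by rw [pow_succ', mul_assoc]
        _ = (y * c ^ k) * u * y ^ k := by rw [ih]; group
        _ = c ^ k * (y * u) * y ^ k := by rw [hy]; group
        _ = c ^ (k + 1) * u * y ^ (k + 1) := by rw [hyu, pow_succ, pow_succ']; group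
  have hcm : c ^ m = 1 := by
    have := h1 m
    rw [hm] at this
    have h3 : y = c ^ m * y := by simpa using this
    have h4 : (1 : Gh) * y = c ^ m * y := by simpa using h3
    exact (mul_right_cancel h4).symm
  have hcn : c ^ n = 1 := by
    have h5 := h2 n
    have h6 : y ^ n * u = u * y ^ n := ((Subgroup.mem_center_iff.1 hn) u).symm
    have h7 : (1 : Gh) * (u * y ^ n) = c ^ n * (u * y ^ n) := by
      rw [one_mul, ← mul_assoc, ← h5, h6]
    exact (mul_right_cancel h7).symm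
  have hc1 : c = 1 := by
    have h8 : orderOf c ∣ n := orderOf_dvd_of_pow_eq_one hcn
    have h9 : orderOf c ∣ m := orderOf_dvd_of_pow_eq_one hcm
    have h10 : orderOf c ∣ 1 := by
      have := Nat.dvd_gcd h8 h9
      rwa [Nat.Coprime.gcd_eq_one hnm] at this
    exact orderOf_eq_one_iff.1 (Nat.dvd_one.1 h10)
  rw [hyu, hc1, one_mul]

/-- **every preimage of `x` commutes with `Q₀`** -/
theorem commutes_of_lift [Finite S] (φ : Gh →* S) (hker : φ.ker ≤ Subgroup.center Gh) {q : ℕ} [Fact q.Prime]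
    (Q₀ : Subgroup Gh) (hQ : IsPGroup q Q₀) (x : S) (hx : ∀ u ∈ Q₀, x * φ u = φ u * x) (hq : ¬ q ∣ orderOf x)
    (y : Gh) (hy : φ y = x) : ∀ u ∈ Q₀, y * u = u * y := by
  intro u hu
  obtain ⟨k, hk⟩ := hQ ⟨u, hu⟩
  have hk' : u ^ q ^ k = 1 := by
    have := congrArg (fun z : Q₀ => (z : Gh)) hk
    simpa using this
  refine comm_eq_one (n := orderOf x) (m := q ^ k) ?_ ?_ hk' ?_
  · apply hker
    rw [MonoidHom.mem_ker]
    simp only [map_mul, map_inv, hy]
    rw [hx u hu]
    group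
  · apply hker
    rw [MonoidHom.mem_ker, map_pow, hy, pow_orderOf_eq_one]
  · exact Nat.Coprime.pow_right k (((Fact.out : q.Prime).coprime_iff_not_dvd.2 hq).symm)

/-- **the lift lemma** -/
theorem exists_lift [Finite S] (φ : Gh →* S) (hφ : Function.Surjective φ) (hker : φ.ker ≤ Subgroup.center Gh) {q : ℕ}
    [Fact q.Prime] (Q₀ : Subgroup Gh) (hQ : IsPGroup q Q₀) (x : S) (hx : ∀ u ∈ Q₀, x * φ u = φ u * x)
    (hq : ¬ q ∣ orderOf x) : ∃ y : Gh, φ y = x ∧ ∀ u ∈ Q₀, y * u = u * y := by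
  obtain ⟨y, hy⟩ := hφ x
  exact ⟨y, hy, commutes_of_lift φ hker Q₀ hQ x hx hq y hy⟩

/-- the image of a `q`-subgroup lies in a Sylow `q`-subgroup -/
theorem exists_sylow [Finite S] (φ : Gh →* S) {q : ℕ} [Fact q.Prime] (Q₀ : Subgroup Gh) (hQ : IsPGroup q Q₀) :
    ∃ Q : Sylow q S, Q₀.map φ ≤ (Q : Subgroup S) :=
  (hQ.map φ).exists_le_sylow

/-- **the form for the assembly**: a Sylow subgroup `Q ≥ φ(Q₀)`; every `q`-regular element of `C_S(Q)` has a preimage
commuting with `Q₀` -/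
theorem exists_sylow_lift [Finite S] (φ : Gh →* S) (hφ : Function.Surjective φ) (hker : φ.ker ≤ Subgroup.center Gh)
    {q : ℕ} [Fact q.Prime] (Q₀ : Subgroup Gh) (hQ : IsPGroup q Q₀) :
    ∃ Q : Sylow q S, Q₀.map φ ≤ (Q : Subgroup S) ∧
      ∀ x : S, (∀ y ∈ (Q : Subgroup S), x * y = y * x) → ¬ q ∣ orderOf x →
        ∃ xh : Gh, φ xh = x ∧ ∀ u ∈ Q₀, xh * u = u * xh := by
  obtain ⟨Q, hQQ⟩ := exists_sylow φ Q₀ hQ
  refine ⟨Q, hQQ, fun x hx hq => exists_lift φ hφ hker Q₀ hQ x (fun u hu => hx _ (hQQ ⟨u, hu, rfl⟩)) hq⟩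

end Cfsg.Agent.H747.CC
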